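import Groth.Agent.Lib.CellNorm5.OpenCell
import Groth.Agent.Lib.CellNorm5.Semisimple
import Groth.Agent.Lib.MaxTorBC14.Geom

/-!
# The centre of a split reductive group is the intersection of the kernels of the roots
-/

set_option autoImplicit false
set_option maxHeartbeats 800000
set_option backward.isDefEq.respectTransparency false

universe u

open CategoryTheory CategoryTheory.Limits MonoidalCategory CartesianMonoidalCategory MonObj GrpObj
open AlgebraicGeometry TopologicalSpace

namespace GrothLib.CellNorm5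

attribute [-instance] Hom.commGroup Hom.commMonoid CommGrpObj.toIsCommMonObj

open GrothLib.RedPts GrothLib.DiagGrp

variable {S : Scheme.{u}} {G : Over S} [GrpObj G] (D : Red.SplitRed G)

theorem exists_prod_eq_one {X : Over S} : ∀ {n : ℕ} (e : Fin n → D.idx),
    ∃ x : X ⟶ RedSub.pow (Red.Ga S) n, x ≫ prod D e = 1 := by
  intro n
  induction n with
  | zero => exact fun e => ⟨toUnit X, by simp [prod, RedSub.prodMap]⟩
  | succ n ih =>
    intro e
    obtain ⟨x, hx⟩ := ih (fun k => e k.succ)
    refine ⟨lift 1 x, ?_⟩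
    simp only [prod, RedSub.prodMap, MonObj.comp_mul, lift_fst_assoc, lift_snd_assoc]
    rw [hx, MonObj.one_comp, _root_.one_mul]

theorem torus_mem_cell {n m : ℕ} (eneg : Fin n → D.idx) (epos : Fin m → D.idx) {X : Over S} (t : X ⟶ D.T)
    (z : X.left) : (t ≫ D.i).left.base z ∈ Set.range (RedSub.cellMap D eneg epos).left.base := by
  obtain ⟨a, ha⟩ := exists_prod_eq_one D eneg (X := X)
  obtain ⟨b, hb⟩ := exists_prod_eq_one D epos (X := X)
  have h : lift a (lift t b) ≫ RedSub.cellMap D eneg epos = t ≫ D.i := by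
    simp only [RedSub.cellMap, MonObj.comp_mul, lift_fst_assoc, lift_snd_assoc]
    rw [ha, hb, _root_.one_mul, _root_.mul_one]
  rw [← h, Over.comp_left, Scheme.Hom.comp_apply]
  exact Set.mem_range_self _

theorem one_mem_cell {n m : ℕ} (eneg : Fin n → D.idx) (epos : Fin m → D.idx) {X : Over S}
    (z : X.left) : (1 : X ⟶ G).left.base z ∈ Set.range (RedSub.cellMap D eneg epos).left.base := by
  rw [← MonObj.one_comp (M := D.T) D.i]
  exact torus_mem_cell D eneg epos 1 z

/-- A central point is, over an algebraically closed field, a point of the torus. -/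
theorem central_factor {K : Type u} [Field K] [IsAlgClosed K] (g : Spec (CommRingCat.of K) ⟶ S)
    [IsAffine (Red.bc g G).left] [Smooth (Red.bc g G).hom] [ConnectedSpace (Red.bc g G).left]
    (hred : Red.IsReductive (Red.bc g G)) (hT : AGF.IsMaxTorus ((Over.pullback g).map D.i)) {X : Over S}
    (p : X ⟶ G) (hp : ∀ (X' : Over S) (x : X' ⟶ X) (h : X' ⟶ G), (x ≫ p) * h = h * (x ≫ p))
    (Z : Over (Spec (CommRingCat.of K))) (pr : (Over.map g).obj Z ⟶ X) :
    ∃ t : (Over.map g).obj Z ⟶ D.T, pr ≫ p = t ≫ D.i := by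
  obtain ⟨t, ht⟩ := CentreTorus5.central_mem_torus hred ((Over.pullback g).map D.i) hT
    (bcPointMulEquiv g G Z (pr ≫ p)) fun X' x h => by
    have hx : x ≫ bcPointMulEquiv g G Z (pr ≫ p) = bcPointMulEquiv g G X' ((Over.map g).map x ≫ pr ≫ p) :=
      (bcPoint_comp g x (pr ≫ p)).symm
    obtain ⟨h, rfl⟩ := (bcPointMulEquiv g G X').surjective h
    rw [hx, ← map_mul, ← map_mul]
    congr 1
    have := hp _ ((Over.map g).map x ≫ pr) h
    rwa [Category.assoc] at this
  refine ⟨(bcPointMulEquiv g D.T Z).symm t, (bcPointMulEquiv g G Z).injective (ht.symm.trans ?_)⟩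
  refine Eq.symm ((bcPoint_comp_right g ((bcPointMulEquiv g D.T Z).symm t) D.i).trans ?_)
  change bcPointMulEquiv g D.T Z _ ≫ _ = _
  rw [MulEquiv.apply_symm_apply]

theorem mono_bc_i {W : Scheme.{u}} (g : W ⟶ S) : Mono ((Over.pullback g).map D.i) := by
  haveI : Mono D.i := D.maximalTorus.2.1
  haveI : (Over.pullback g).IsRightAdjoint := (Over.mapPullbackAdj g).isRightAdjoint
  infer_instance

theorem isMonHom_bc_i {W : Scheme.{u}} (g : W ⟶ S) : IsMonHom ((Over.pullback g).map D.i) := by
  infer_instance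

/-- The torus of a splitting is a maximal torus in each geometric fibre. -/
theorem isMaxTorus_fibre (s : S) : AGF.IsMaxTorus ((Over.pullback (Red.geomPt s)).map D.i) :=
  ⟨isMonHom_bc_i D _, mono_bc_i D _, MaxTorBC14.isTorus_bc (Red.geomPt s) D.maximalTorus.2.2.1,
    fun T' _ j' _ _ f hT' hf => D.maximalTorus.2.2.2 s T' j' f hT' hf⟩

/-- A central point factors through the torus in each geometric fibre. -/
theorem central_factor_fibre (s : S) {X : Over S} (p : X ⟶ G)
    (hp : ∀ (X' : Over S) (x : X' ⟶ X) (h : X' ⟶ G), (x ≫ p) * h = h * (x ≫ p))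
    (Z : Over (Spec (CommRingCat.of (AlgebraicClosure (S.residueField s)))))
    (pr : (Over.map (Red.geomPt s)).obj Z ⟶ X) :
    ∃ t : (Over.map (Red.geomPt s)).obj Z ⟶ D.T, pr ≫ p = t ≫ D.i := by
  obtain ⟨ha, hs, hc, -⟩ := id (D.reductive.2.2 s)
  haveI := ha; haveI := hs; haveI := hc
  exact central_factor D (K := AlgebraicClosure (S.residueField s)) (Red.geomPt s)
    (CentreTorus5.isReductive_of_over _ (D.reductive.2.2 s)) (isMaxTorus_fibre D s) p hp Z pr

/-- A central point factors through the ordered big cell. -/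
theorem central_mem_cell {n m : ℕ} (eneg : Fin n → D.idx) (epos : Fin m → D.idx) {X : Over S} (p : X ⟶ G)
    (hp : ∀ (X' : Over S) (x : X' ⟶ X) (h : X' ⟶ G), (x ≫ p) * h = h * (x ≫ p)) (z : X.left) :
    p.left.base z ∈ Set.range (RedSub.cellMap D eneg epos).left.base := by
  have hgs : (Red.geomPt (X.hom.base z)).base
      (IsLocalRing.closedPoint (AlgebraicClosure (S.residueField (X.hom.base z)))) = X.hom.base z := by
    change (Spec.map _ ≫ S.fromSpecResidueField _).base _ = _
    rw [Scheme.Hom.comp_apply]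
    exact Scheme.fromSpecResidueField_apply _ _
  obtain ⟨w, hw, -⟩ := Scheme.Pullback.exists_preimage_pullback (f := X.hom) (g := Red.geomPt (X.hom.base z)) z
    (IsLocalRing.closedPoint _) hgs.symm
  obtain ⟨t', ht'⟩ := central_factor_fibre D (X.hom.base z) p hp (Red.geomFibre (X.hom.base z) X)
    (Over.homMk (pullback.fst X.hom (Red.geomPt (X.hom.base z))) pullback.condition)
  have e := congrArg (fun a => a.left.base w) ht'
  simp only [Over.comp_left, Over.homMk_left, Scheme.Hom.comp_apply] at e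
  rw [← hw]
  exact e ▸ torus_mem_cell D eneg epos t' w

/-- A central point is a point of the torus killed by the roots. -/
theorem torus_of_central {X : Over S} (p : X ⟶ G)
    (hp : ∀ (X' : Over S) (x : X' ⟶ X) (h : X' ⟶ G), (x ≫ p) * h = h * (x ≫ p)) :
    ∃ t : X ⟶ D.T, t ≫ D.i = p ∧ ∀ a : D.idx, t ≫ D.split.hom.hom.hom ≫ Red.chi S (D.P.root a) = 1 := by
  obtain ⟨φ, n, m, eneg, epos, hn, hpos, hc⟩ := exists_open_cell D
  haveI := hc
  haveI := D.reductive.1
  let c := (RedSub.cellMap D eneg epos).left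
  let l := IsOpenImmersion.lift c p.left (Set.range_subset_iff.mpr (central_mem_cell D eneg epos p hp))
  have hl : l ≫ c = p.left := IsOpenImmersion.lift_fac _ _ _
  let x : X ⟶ RedSub.pow (Red.Ga S) n ⊗ (D.T ⊗ RedSub.pow (Red.Ga S) m) := Over.homMk l (by
    rw [← Over.w (RedSub.cellMap D eneg epos), ← Category.assoc]
    exact (congrArg (· ≫ G.hom) hl).trans (Over.w p))
  have hx : x ≫ RedSub.cellMap D eneg epos = p := Over.OverMorphism.ext hl
  let t : X ⟶ D.T := x ≫ snd _ _ ≫ fst _ _
  have htp : t ≫ D.i = p := by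
    apply Over.OverMorphism.ext
    refine Scheme.hom_ext_of_forall _ _ fun z => ?_
    obtain ⟨V, hV, hzV, -⟩ := exists_isAffineOpen_mem_and_subset (TopologicalSpace.Opens.mem_top (X.hom.base z))
    obtain ⟨U, hU, hzU, hUV⟩ := exists_isAffineOpen_mem_and_subset (show z ∈ X.hom ⁻¹ᵁ V from hzV)
    refine ⟨U, hzU, ?_⟩
    let f : Spec Γ(X.left, U) ⟶ S := hU.fromSpec ≫ X.hom
    let j : Over.mk f ⟶ X := Over.homMk hU.fromSpec rfl
    have hf : ∀ w, f.base w ∈ V := fun w => by
      rw [Scheme.Hom.comp_apply]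
      exact hUV (hU.range_fromSpec.le (Set.mem_range_self w))
    have hg : j ≫ p = ((j ≫ x ≫ fst _ _) ≫ prod D eneg) *
        (((j ≫ t) ≫ D.i) * ((j ≫ x ≫ snd _ _ ≫ snd _ _) ≫ prod D epos)) := by
      rw [← hx]
      simp only [t, RedSub.cellMap, prod, MonObj.comp_mul, Category.assoc]
    have hτ := hp _ (prZ (R := Γ(X.left, U)) f ≫ j) (wt f D φ ≫ D.i)
    rw [Category.assoc, hg] at hτ
    obtain ⟨h1, h2⟩ := unipotent_eq_one (R := Γ(X.left, U)) f D φ hV hf eneg epos hn hpos _ _ _ (wt f D φ)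
      (mul_inv_eq_iff_eq_mul.mpr hτ)
    rw [h1, h2, _root_.one_mul, _root_.mul_one] at hg
    have h3 : hU.fromSpec ≫ (t ≫ D.i).left = hU.fromSpec ≫ p.left :=
      congrArg (fun a => a.left) ((Category.assoc j t D.i).symm.trans hg.symm)
    rw [← IsAffineOpen.isoSpec_hom_fromSpec hU]
    exact (Category.assoc _ _ _).trans ((congrArg (hU.isoSpec.hom ≫ ·) h3).trans (Category.assoc _ _ _).symm)
  refine ⟨t, htp, root_eq_one_of_central D t fun h => ?_⟩
  rw [htp]
  simpa using hp X (𝟙 X) h

/-- A torus point killed by the roots commutes with the points of the big cell. -/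
theorem comm_cell_of_killed {X : Over S} (t : X ⟶ D.T)
    (ht : ∀ a, t ≫ D.split.hom.hom.hom ≫ Red.chi S (D.P.root a) = 1) {n m : ℕ} (eneg : Fin n → D.idx)
    (epos : Fin m → D.idx) (x : X ⟶ RedSub.pow (Red.Ga S) n ⊗ (D.T ⊗ RedSub.pow (Red.Ga S) m)) :
    Commute (t ≫ D.i) (x ≫ RedSub.cellMap D eneg epos) := by
  have hu : ∀ (a : D.idx) (y : X ⟶ Red.Ga S), Commute (t ≫ D.i) (y ≫ D.u a) := fun a y => by
    obtain ⟨y', hy, hyv⟩ := (D.rootHom a).2.2 X t y
    have e : y' = y := gaFn_injective (by rw [hyv, ht a, GmPts.gmFn_one, _root_.one_mul])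
    rw [e, eq_mul_inv_iff_mul_eq] at hy
    exact hy.symm
  have hprod : ∀ {l : ℕ} (e : Fin l → D.idx) (y : X ⟶ RedSub.pow (Red.Ga S) l),
      Commute (t ≫ D.i) (y ≫ prod D e) := by
    intro l
    induction l with
    | zero => exact fun e y => by simp [prod, RedSub.prodMap]
    | succ l ih =>
      intro e y
      simp only [prod, RedSub.prodMap, MonObj.comp_mul]
      rw [← Category.assoc y (fst _ _), ← Category.assoc y (snd _ _)]
      exact (hu _ _).mul_right (ih (fun k => e k.succ) _)
  simp only [RedSub.cellMap, MonObj.comp_mul]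
  rw [← Category.assoc x (fst _ _), ← Category.assoc (snd _ _), ← Category.assoc x _ D.i,
    ← Category.assoc (snd _ _) (snd _ _), ← Category.assoc x (snd _ _ ≫ snd _ _)]
  exact (hprod eneg _).mul_right (Commute.mul_right (comm_i D _ _) (hprod epos _))

/-- Locally for the flat topology every point is a product of two points of the big cell. -/
theorem surjective_cell_mul {n m : ℕ} (eneg : Fin n → D.idx) (epos : Fin m → D.idx)
    [IsOpenImmersion (RedSub.cellMap D eneg epos).left] :
    Surjective ((fst _ _ ≫ RedSub.cellMap D eneg epos) * (snd _ _ ≫ RedSub.cellMap D eneg epos)).left := by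
  refine ⟨fun y => ?_⟩
  haveI := D.reductive.2.1
  let c := RedSub.cellMap D eneg epos
  let Y : Over S := Over.mk (G.left.fromSpecResidueField y ≫ G.hom)
  let h : Y ⟶ G := Over.homMk (G.left.fromSpecResidueField y) rfl
  have hgi : GeometricallyIrreducible G.hom := SecLocus.geometricallyIrreducible_of_connected _ fun s => by
    obtain ⟨-, -, hconn, -⟩ := D.reductive.2.2 s
    haveI := hconn
    have hr : Set.range (pullback.fst G.hom (Red.geomPt s)).base = G.hom.base ⁻¹' {s} := by
      rw [Scheme.Pullback.range_fst]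
      congr 1
      haveI : Subsingleton ↥(Spec (CommRingCat.of (AlgebraicClosure (S.residueField s)))) :=
        inferInstanceAs (Subsingleton (PrimeSpectrum _))
      refine Set.eq_singleton_iff_unique_mem.mpr ⟨⟨IsLocalRing.closedPoint _, ?_⟩, ?_⟩
      · change (Spec.map _ ≫ S.fromSpecResidueField s).base _ = s
        rw [Scheme.Hom.comp_apply]
        exact Scheme.fromSpecResidueField_apply _ _
      · rintro _ ⟨q, rfl⟩
        change (Spec.map _ ≫ S.fromSpecResidueField s).base _ = s
        rw [Scheme.Hom.comp_apply]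
        exact Scheme.fromSpecResidueField_apply _ _
    rw [← hr]
    haveI : ConnectedSpace ↥(pullback G.hom (Red.geomPt s)) := ‹ConnectedSpace ↥(Red.geomFibre s G).left›
    exact isConnected_range (pullback.fst G.hom (Red.geomPt s)).continuous
  haveI := hgi
  haveI : IrreducibleSpace ↥Y.left := inferInstanceAs (IrreducibleSpace (PrimeSpectrum (G.left.residueField y)))
  haveI : IrreducibleSpace ↥(Y ⊗ G).left := inferInstanceAs (IrreducibleSpace ↥(pullback Y.hom G.hom))
  let a : Y ⊗ G ⟶ G := (snd Y G)⁻¹ * (fst Y G ≫ h)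
  let U : Set G.left := Set.range c.left.base
  have hU : IsOpen U := c.left.isOpenEmbedding.isOpen_range
  let y₀ : Y.left := IsLocalRing.closedPoint (G.left.residueField y)
  have h1 : ((snd Y G).left.base ⁻¹' U).Nonempty := by
    refine ⟨(lift (𝟙 Y) (1 : Y ⟶ G)).left.base y₀, ?_⟩
    rw [Set.mem_preimage, ← Scheme.Hom.comp_apply, ← Over.comp_left, lift_snd]
    exact one_mem_cell D eneg epos y₀
  have h2 : (a.left.base ⁻¹' U).Nonempty := by
    refine ⟨(lift (𝟙 Y) h).left.base y₀, ?_⟩
    rw [Set.mem_preimage, ← Scheme.Hom.comp_apply, ← Over.comp_left]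
    simp only [a, MonObj.comp_mul, GrpObj.comp_inv, lift_snd, lift_fst_assoc, Category.id_comp, inv_mul_cancel]
    exact one_mem_cell D eneg epos y₀
  obtain ⟨w, hw1, hw2⟩ := nonempty_preirreducible_inter (hU.preimage (snd Y G).left.continuous)
    (hU.preimage a.left.continuous) h1 h2
  let W : Over S := Over.mk ((Y ⊗ G).left.fromSpecResidueField w ≫ (Y ⊗ G).hom)
  let ω : W ⟶ Y ⊗ G := Over.homMk ((Y ⊗ G).left.fromSpecResidueField w) rfl
  have hlift : ∀ q : Y ⊗ G ⟶ G, q.left.base w ∈ U →
      ∃ x : W ⟶ RedSub.pow (Red.Ga S) n ⊗ (D.T ⊗ RedSub.pow (Red.Ga S) m), x ≫ c = ω ≫ q := by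
    intro q hq
    have hsub : Set.range (ω ≫ q).left.base ⊆ Set.range c.left.base := by
      rintro _ ⟨v, rfl⟩
      rw [Over.comp_left, Scheme.Hom.comp_apply]
      convert hq using 2
      exact Scheme.fromSpecResidueField_apply _ _
    refine ⟨Over.homMk (IsOpenImmersion.lift c.left (ω ≫ q).left hsub) ?_, Over.OverMorphism.ext
      (IsOpenImmersion.lift_fac _ _ _)⟩
    rw [← Over.w c, ← Category.assoc, IsOpenImmersion.lift_fac]
    exact Over.w (ω ≫ q)
  obtain ⟨x₁, e₁⟩ := hlift (snd Y G) hw1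
  obtain ⟨x₂, e₂⟩ := hlift a hw2
  have e : lift x₁ x₂ ≫ ((fst _ _ ≫ c) * (snd _ _ ≫ c)) = ω ≫ fst Y G ≫ h := by
    rw [MonObj.comp_mul, lift_fst_assoc, lift_snd_assoc, e₁, e₂, ← MonObj.comp_mul]
    simp only [a, mul_inv_cancel_left]
  let v : W.left := IsLocalRing.closedPoint ((Y ⊗ G).left.residueField w)
  refine ⟨(lift x₁ x₂).left.base v, ?_⟩
  rw [← Scheme.Hom.comp_apply, ← Over.comp_left, e, Over.comp_left, Scheme.Hom.comp_apply, Over.comp_left,
    Scheme.Hom.comp_apply]
  exact Scheme.fromSpecResidueField_apply _ _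

/-- A torus point killed by the roots is central. -/
theorem central_of_killed {X : Over S} (t : X ⟶ D.T)
    (ht : ∀ a, t ≫ D.split.hom.hom.hom ≫ Red.chi S (D.P.root a) = 1) (h : X ⟶ G) :
    (t ≫ D.i) * h = h * (t ≫ D.i) := by
  obtain ⟨φ, n, m, eneg, epos, -, -, hc⟩ := exists_open_cell D
  haveI := hc
  haveI := D.reductive.2.1
  let Ω := RedSub.pow (Red.Ga S) n ⊗ (D.T ⊗ RedSub.pow (Red.Ga S) m)
  let c := RedSub.cellMap D eneg epos
  let m₂ : Ω ⊗ Ω ⟶ G := (fst _ _ ≫ c) * (snd _ _ ≫ c)
  haveI : Surjective m₂.left := surjective_cell_mul D eneg epos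
  haveI : Flat m₂.left := by
    let e : G ⊗ G ≅ G ⊗ G :=
      { hom := lift (fst G G * snd G G) (snd G G)
        inv := lift (fst G G * (snd G G)⁻¹) (snd G G)
        hom_inv_id := by
          apply CartesianMonoidalCategory.hom_ext <;> simp [MonObj.comp_mul, GrpObj.comp_inv]
        inv_hom_id := by
          apply CartesianMonoidalCategory.hom_ext <;> simp [MonObj.comp_mul, GrpObj.comp_inv] }
    haveI : IsOpenImmersion (c ⊗ₘ c).left := by
      rw [Over.tensorHom_left]; infer_instance
    haveI : IsIso e.hom.left := ((Over.forget S).mapIso e).isIso_hom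
    haveI : Flat (fst G G).left := inferInstanceAs (Flat (pullback.fst G.hom G.hom))
    have hm : m₂ = (c ⊗ₘ c) ≫ e.hom ≫ fst G G := by
      simp only [m₂, e, lift_fst, MonObj.comp_mul, tensorHom_fst, tensorHom_snd]
    rw [hm, Over.comp_left, Over.comp_left]
    infer_instance
  let W : Over S := Over.mk (pullback.fst h.left m₂.left ≫ X.hom)
  let p : W ⟶ X := Over.homMk (pullback.fst h.left m₂.left) rfl
  let q : W ⟶ Ω ⊗ Ω := Over.homMk (pullback.snd h.left m₂.left) (by
    change _ = pullback.fst h.left m₂.left ≫ X.hom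
    rw [← Over.w m₂, ← Category.assoc, ← pullback.condition, Category.assoc, Over.w h])
  have hpq : p ≫ h = q ≫ m₂ := Over.OverMorphism.ext pullback.condition
  haveI : Epi p.left := Flat.epi_of_flat_of_surjective (pullback.fst h.left m₂.left)
  haveI : Epi p := Over.epi_of_epi_left p
  rw [← cancel_epi p, MonObj.comp_mul, MonObj.comp_mul, hpq]
  have ht' : ∀ a, (p ≫ t) ≫ D.split.hom.hom.hom ≫ Red.chi S (D.P.root a) = 1 := fun a => by
    rw [Category.assoc, ht a, MonObj.comp_one]
  have h1 := comm_cell_of_killed D (p ≫ t) ht' eneg epos (q ≫ fst Ω Ω)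
  have h2 := comm_cell_of_killed D (p ≫ t) ht' eneg epos (q ≫ snd Ω Ω)
  simp only [Category.assoc] at h1 h2
  simp only [m₂, MonObj.comp_mul]
  exact (h1.mul_right h2).eq

/-- **The centre is the intersection of the kernels of the roots in the torus.** -/
theorem central_iff (X : Over S) (g : X ⟶ G) :
    (∀ (X' : Over S) (x : X' ⟶ X) (h : X' ⟶ G), (x ≫ g) * h = h * (x ≫ g)) ↔
      ∃ t : X ⟶ D.T, t ≫ D.i = g ∧ ∀ a : D.idx, t ≫ D.split.hom.hom.hom ≫ Red.chi S (D.P.root a) = 1 := by
  refine ⟨torus_of_central D g, ?_⟩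
  rintro ⟨t, rfl, ht⟩ X' x h
  have := central_of_killed D (x ≫ t) (fun a => by rw [Category.assoc, ht a, MonObj.comp_one]) h
  rwa [Category.assoc] at this

end GrothLib.CellNorm5
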