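import Groth.Agent.Lib.CellNorm5.Central
import Groth.Agent.S4993
import Groth.Agent.Lib.CentreTorus5.Main
import Groth.Agent.Lib.SubTorus14.Points

/-!
# An ordered big cell is an open immersion over any base

The ordered big cell of a generic linear form is a monomorphism of smooth schemes over the base whose
fibres are irreducible of the same dimension as those of the group.
-/

set_option autoImplicit false
set_option maxHeartbeats 800000
set_option backward.isDefEq.respectTransparency false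

universe u

open CategoryTheory CategoryTheory.Limits MonoidalCategory CartesianMonoidalCategory MonObj GrpObj
open AlgebraicGeometry TopologicalSpace

namespace GrothLib.CellNorm5

attribute [-instance] Hom.commGroup Hom.commMonoid CommGrpObj.toIsCommMonObj

/-- Smooth, geometrically irreducible, of given dimension. -/
def FibP {K : Type u} [Field K] (Y : Over (Spec (CommRingCat.of K))) (d : ℕ) : Prop :=
  Smooth Y.hom ∧ GeometricallyIrreducible Y.hom ∧ topologicalKrullDim ↥Y.left = ((d : ℕ) : WithBot ℕ∞)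

theorem FibP.of_iso {K : Type u} [Field K] {Y Y' : Over (Spec (CommRingCat.of K))} {d : ℕ} (h : FibP Y' d)
    (e : Y ≅ Y') : FibP Y d := by
  obtain ⟨h1, h2, h3⟩ := h
  haveI := h1; haveI := h2
  haveI : IsIso e.hom.left := inferInstanceAs (IsIso ((Over.forget _).map e.hom))
  have hw : e.hom.left ≫ Y'.hom = Y.hom := Over.w e.hom
  refine ⟨hw ▸ inferInstance, ?_, ?_⟩
  · haveI : Surjective (e.hom.left ≫ Y'.hom) := inferInstance
    rw [← hw]; infer_instance
  · rw [← h3]
    exact IsHomeomorph.topologicalKrullDim_eq _ (Scheme.homeoOfIso (asIso e.hom.left)).isHomeomorph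

theorem FibP.prod {K : Type u} [Field K] {A B : Over (Spec (CommRingCat.of K))} {a b : ℕ} (hA : FibP A a)
    (hB : FibP B b) : FibP (A ⊗ B) (a + b) := by
  obtain ⟨a1, a2, a3⟩ := hA
  obtain ⟨b1, b2, b3⟩ := hB
  haveI := a1; haveI := a2; haveI := b1; haveI := b2
  refine ⟨inferInstanceAs (Smooth (pullback.fst A.hom B.hom ≫ A.hom)),
    GeometricallyIrreducible.comp (pullback.fst A.hom B.hom) A.hom, ?_⟩
  show topologicalKrullDim ↥(pullback A.hom B.hom) = _
  rw [FBase7.topologicalKrullDim_pullback_eq_add, a3, b3]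
  norm_cast

variable {S : Scheme.{u}}

/-- Base change of an object pulled back from `Spec ℤ`. -/
noncomputable def bcTerm {W : Scheme.{u}} (g : W ⟶ S) (A : Over (Spec (CommRingCat.of (ULift.{u} ℤ)))) :
    Red.bc g (Red.bc (Limits.IsTerminal.from specULiftZIsTerminal S) A) ≅
      Red.bc (Limits.IsTerminal.from specULiftZIsTerminal W) A :=
  Over.isoMk (pullbackLeftPullbackSndIso A.hom (Limits.IsTerminal.from specULiftZIsTerminal S) g ≪≫
    pullback.congrHom rfl (specULiftZIsTerminal.hom_ext _ _)) (by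
    dsimp
    simp)

section Fibre

variable {K : Type u} [Field K] (g : Spec (CommRingCat.of K) ⟶ S)

theorem fibP_Ga : FibP (Red.bc g (Red.Ga S)) 1 :=
  FibP.of_iso ⟨NoTorus14.smooth_Ga _, geometricallyIrreducible_Ga, dim_Ga⟩ (bcTerm g Red.GaZ)

theorem fibP_pow : ∀ n : ℕ, FibP (Red.bc g (RedSub.pow (Red.Ga S) n)) n := by
  intro n
  induction n with
  | zero =>
    exact FibP.of_iso (pow_props (k := K) 0) (Functor.Monoidal.εIso (Over.pullback g)).symm
  | succ n ih =>
    have h := FibP.of_iso ((fibP_Ga g).prod ih)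
      (Functor.Monoidal.μIso (Over.pullback g) (Red.Ga S) (RedSub.pow (Red.Ga S) n)).symm
    rw [Nat.add_comm] at h
    exact h

theorem fibP_torus {G : Over S} [GrpObj G] (D : Red.SplitRed G) :
    FibP (Red.bc g D.T) (Module.finrank ℤ D.M) := by
  have hT : Red.IsTorus (Red.DS (Spec (CommRingCat.of K)) D.M) :=
    NormalTori14.isTorus_DS _ (Module.finBasis ℤ D.M).equivFun.symm.toAddEquiv
  exact FibP.of_iso ⟨TorusNorm25.smooth_of_isTorus hT,
    haveI : Smooth (Red.DS (Spec (CommRingCat.of K)) D.M).hom := TorusNorm25.smooth_of_isTorus hT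
    SecLocus.geometricallyIrreducible_of_connected _ (TorusNorm25.isConnected_fibre_of_isTorus hT), dim_DS D.M⟩
    ((Over.pullback g).mapIso ((Grp.forget _).mapIso D.split) ≪≫ bcTerm g _)

theorem fibP_cell {G : Over S} [GrpObj G] (D : Red.SplitRed G) (n m : ℕ) :
    FibP (Red.bc g (RedSub.pow (Red.Ga S) n ⊗ (D.T ⊗ RedSub.pow (Red.Ga S) m)))
      (n + (Module.finrank ℤ D.M + m)) :=
  FibP.of_iso ((fibP_pow g n).prod (FibP.of_iso ((fibP_torus g D).prod (fibP_pow g m))
    (Functor.Monoidal.μIso (Over.pullback g) _ _).symm)) (Functor.Monoidal.μIso (Over.pullback g) _ _).symm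

end Fibre

/-- The fibre dimension of a smooth scheme with irreducible geometric fibres of constant dimension. -/
theorem fibreDimAt_of_geomFibre (Y : Over S) [Smooth Y.hom] (d : ℕ)
    (h : ∀ s, IrreducibleSpace ↥(Red.geomFibre s Y).left ∧
      topologicalKrullDim ↥(Red.geomFibre s Y).left = ((d : ℕ) : WithBot ℕ∞)) (y : Y.left) :
    FlatMor.fibreDimAt Y.hom y = ((d : ℕ) : WithBot ℕ∞) := by
  let s := Y.hom.base y
  let q : Spec (CommRingCat.of (AlgebraicClosure (S.residueField s))) ⟶ Spec (S.residueField s) :=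
    Spec.map (CommRingCat.ofHom (algebraMap (S.residueField s) (AlgebraicClosure (S.residueField s))))
  let pz : Y.hom.fiber s ⟶ Spec (CommRingCat.of (S.residueField s)) := Y.hom.fiberToSpecResidueField s
  haveI : Smooth pz := MorphismProperty.pullback_snd Y.hom (S.fromSpecResidueField s) ‹_›
  let e : pullback pz q ≅ (Red.geomFibre s Y).left :=
    pullbackLeftPullbackSndIso Y.hom (S.fromSpecResidueField s) q
  haveI : IrreducibleSpace ↥(Red.geomFibre s Y).left := (h s).1
  haveI : IrreducibleSpace ↥(pullback pz q) :=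
    (Scheme.homeoOfIso e).symm.surjective.irreducibleSpace (Homeomorph.continuous _)
  haveI : Subsingleton ↥(Spec (CommRingCat.of (S.residueField s))) :=
    inferInstanceAs (Subsingleton (PrimeSpectrum (S.residueField s)))
  haveI : Surjective q := ⟨fun z => ⟨IsLocalRing.closedPoint _, Subsingleton.elim (α := PrimeSpectrum (S.residueField s)) _ _⟩⟩
  haveI : Surjective (pullback.fst pz q) := MorphismProperty.pullback_fst _ _ inferInstance
  haveI : IrreducibleSpace ↥(Y.hom.fiber s) :=
    (pullback.fst pz q).surjective.irreducibleSpace (pullback.fst pz q).continuous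
  haveI : IsReduced (Y.hom.fiber s) := RedSmooth.isReduced_of_smooth pz
  haveI : IsIntegral (Y.hom.fiber s) := (isIntegral_iff_irreducibleSpace_and_isReduced _).2 ⟨inferInstance, inferInstance⟩
  obtain ⟨N, hN, hNU⟩ := Dim.exists_nat_dim_open pz
  have hNd : N = d := by
    have h1 : topologicalKrullDim ↥(pullback pz q) = topologicalKrullDim ↥(Y.hom.fiber s) :=
      (IsHomeomorph.topologicalKrullDim_eq _ (Scheme.homeoOfIso (pullbackSymmetry _ _)).isHomeomorph).trans
        (CurveLocus.topologicalKrullDim_pullback pz (AlgebraicClosure (S.residueField s)))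
    rw [IsHomeomorph.topologicalKrullDim_eq _ (Scheme.homeoOfIso e).isHomeomorph, (h s).2, hN] at h1
    exact_mod_cast h1.symm
  subst hNd
  refine le_antisymm ?_ (le_iInf fun U => (hNU U.1 ⟨⟨_, U.2⟩⟩).ge)
  refine (iInf_le _ ⟨⊤, trivial⟩).trans ?_
  exact (hNU ⊤ ⟨⟨Y.hom.asFiber y, trivial⟩⟩).le

variable {G : Over S} [GrpObj G] (D : Red.SplitRed G)

/-- The ordered enumerations attached to a linear form separating the roots. -/
theorem exists_orderings' {S : Scheme.{u}} {G : Over S} [GrpObj G] (D : Red.SplitRed G) : ∃ (φ : D.M →+ ℤ) (n m : ℕ) (eneg : Fin n → D.idx) (epos : Fin m → D.idx),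
    (∀ i, φ (D.P.root (eneg i)) < 0) ∧ (∀ i, 0 < φ (D.P.root (epos i))) ∧
    StrictMono (fun i => (-φ) (D.P.root (eneg i))) ∧ StrictMono (fun i => φ (D.P.root (epos i))) ∧
    n + m = Fintype.card D.idx := by
  classical
  obtain ⟨φ, hφ⟩ := exists_generic (Finset.univ.image D.P.root ∪
    (Finset.univ ×ˢ Finset.univ).image (fun p : D.idx × D.idx => D.P.root p.1 - D.P.root p.2))
  have h0 : ∀ a, φ (D.P.root a) ≠ 0 := fun a =>
    hφ _ (Finset.mem_union_left _ (Finset.mem_image_of_mem _ (Finset.mem_univ a))) (D.P.ne_zero a)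
  have hinj : Function.Injective fun a => φ (D.P.root a) := fun a b hab => by
    by_contra hne
    exact hφ (D.P.root a - D.P.root b) (Finset.mem_union_right _ (Finset.mem_image.mpr
      ⟨(a, b), Finset.mem_product.mpr ⟨Finset.mem_univ a, Finset.mem_univ b⟩, rfl⟩))
      (sub_ne_zero.mpr fun e => hne (D.P.root.injective e)) (by simpa [sub_eq_zero] using hab)
  have key : ∀ (ψ : D.M →+ ℤ), (Function.Injective fun a => ψ (D.P.root a)) →
      ∃ e : Fin (Finset.univ.filter fun a => 0 < ψ (D.P.root a)).card → D.idx,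
        (∀ i, 0 < ψ (D.P.root (e i))) ∧ StrictMono fun i => ψ (D.P.root (e i)) := by
    intro ψ hψ
    let s := Finset.univ.filter fun a => 0 < ψ (D.P.root a)
    let v := s.image fun a => ψ (D.P.root a)
    have hc : v.card = s.card := Finset.card_image_of_injective _ hψ
    choose e he he' using fun i : Fin s.card => Finset.mem_image.mp (v.orderEmbOfFin_mem hc i)
    refine ⟨e, fun i => (Finset.mem_filter.mp (he i)).2, fun a b hab => ?_⟩
    show ψ (D.P.root (e a)) < ψ (D.P.root (e b))
    rw [he', he']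
    exact (v.orderEmbOfFin hc).strictMono hab
  obtain ⟨epos, hp, hpm⟩ := key φ hinj
  obtain ⟨eneg, hn, hnm⟩ := key (-φ) (fun a b hab => hinj (neg_injective hab))
  refine ⟨φ, _, _, eneg, epos, fun i => by have := hn i; rw [AddMonoidHom.neg_apply] at this; omega,
    hp, hnm, hpm, ?_⟩
  rw [← Finset.card_union_of_disjoint, ← Finset.card_univ]
  · refine congrArg _ (Finset.eq_univ_of_forall fun a => ?_)
    rcases lt_or_gt_of_ne (h0 a) with h | h
    · exact Finset.mem_union_left _ (by simp [h])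
    · exact Finset.mem_union_right _ (by simp [h])
  · refine Finset.disjoint_filter.mpr fun a _ h h' => ?_
    rw [AddMonoidHom.neg_apply] at h
    omega

/-- The ordered big cell of a generic linear form is a monomorphism, over any base. -/
theorem mono_cellMap' {φ : D.M →+ ℤ} {n m : ℕ} {eneg : Fin n → D.idx} {epos : Fin m → D.idx}
    (hn : ∀ i, φ (D.P.root (eneg i)) < 0) (hp : ∀ i, 0 < φ (D.P.root (epos i)))
    (hnm : StrictMono fun i => (-φ) (D.P.root (eneg i))) (hpm : StrictMono fun i => φ (D.P.root (epos i))) :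
    Mono (RedSub.cellMap D eneg epos) := by
  haveI := D.reductive.1
  haveI : Mono D.i := D.maximalTorus.2.1
  refine ⟨fun {Z} a b hab => Over.OverMorphism.ext (Scheme.hom_ext_of_forall _ _ fun z => ?_)⟩
  obtain ⟨V, hV, hzV, -⟩ := exists_isAffineOpen_mem_and_subset (TopologicalSpace.Opens.mem_top (Z.hom.base z))
  obtain ⟨U, hU, hzU, hUV⟩ := exists_isAffineOpen_mem_and_subset (show z ∈ Z.hom ⁻¹ᵁ V from hzV)
  refine ⟨U, hzU, ?_⟩
  let f : Spec Γ(Z.left, U) ⟶ S := hU.fromSpec ≫ Z.hom
  let j : Over.mk f ⟶ Z := Over.homMk hU.fromSpec rfl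
  have hf : ∀ w, f.base w ∈ V := fun w => by
    rw [Scheme.Hom.comp_apply]
    exact hUV (hU.range_fromSpec.le (Set.mem_range_self w))
  have h := congrArg (fun q => j ≫ q) hab
  simp only [RedSub.cellMap, MonObj.comp_mul] at h
  obtain ⟨h1, h2, h3⟩ := cell_unique (R := Γ(Z.left, U)) f D φ hV hf eneg epos hn hp
    (j ≫ a ≫ fst _ _) (j ≫ b ≫ fst _ _) (j ≫ a ≫ snd _ _ ≫ fst _ _) (j ≫ b ≫ snd _ _ ≫ fst _ _)
    (j ≫ a ≫ snd _ _ ≫ snd _ _) (j ≫ b ≫ snd _ _ ≫ snd _ _) (by simpa only [prod, Category.assoc] using h)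
  rw [cancel_mono] at h2
  have e1 := prod_injective (R := Γ(Z.left, U)) f D (-φ) hV hf eneg
    (fun i => by have := hn i; rw [AddMonoidHom.neg_apply]; omega) hnm _ _ h1
  have e3 := prod_injective (R := Γ(Z.left, U)) f D φ hV hf epos hp hpm _ _ h3
  have h4 : j ≫ a = j ≫ b :=
    CartesianMonoidalCategory.hom_ext _ _ (by simpa using e1)
      (CartesianMonoidalCategory.hom_ext _ _ (by simpa using h2) (by simpa using e3))
  have h5 : hU.fromSpec ≫ a.left = hU.fromSpec ≫ b.left := congrArg (fun q => q.left) h4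
  rw [← IsAffineOpen.isoSpec_hom_fromSpec hU, Category.assoc, Category.assoc, h5]

theorem smooth_pow : ∀ n : ℕ, Smooth (RedSub.pow (Red.Ga S) n).hom := by
  intro n
  induction n with
  | zero => exact inferInstanceAs (Smooth (𝟙 S))
  | succ n ih =>
    haveI := ih; haveI := NoTorus14.smooth_Ga S
    exact inferInstanceAs (Smooth (pullback.fst (Red.Ga S).hom (RedSub.pow (Red.Ga S) n).hom ≫ (Red.Ga S).hom))

theorem smooth_cell_source (n m : ℕ) :
    Smooth (RedSub.pow (Red.Ga S) n ⊗ (D.T ⊗ RedSub.pow (Red.Ga S) m)).hom := by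
  haveI := smooth_pow (S := S) n; haveI := smooth_pow (S := S) m
  haveI : Smooth D.T.hom := TorusNorm25.smooth_of_isTorus D.maximalTorus.2.2.1
  haveI : Smooth (D.T ⊗ RedSub.pow (Red.Ga S) m).hom :=
    inferInstanceAs (Smooth (pullback.fst D.T.hom (RedSub.pow (Red.Ga S) m).hom ≫ D.T.hom))
  exact inferInstanceAs (Smooth (pullback.fst (RedSub.pow (Red.Ga S) n).hom
    (D.T ⊗ RedSub.pow (Red.Ga S) m).hom ≫ (RedSub.pow (Red.Ga S) n).hom))

/-- **An ordered big cell is an open immersion.** -/
theorem exists_open_cell : ∃ (φ : D.M →+ ℤ) (n m : ℕ) (eneg : Fin n → D.idx) (epos : Fin m → D.idx),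
    (∀ i, φ (D.P.root (eneg i)) < 0) ∧ (∀ i, 0 < φ (D.P.root (epos i))) ∧
      IsOpenImmersion (RedSub.cellMap D eneg epos).left := by
  obtain ⟨φ, n, m, eneg, epos, hn, hp, hnm, hpm, hcard⟩ : ∃ (φ : D.M →+ ℤ) (n m : ℕ) (eneg : Fin n → D.idx)
      (epos : Fin m → D.idx), (∀ i, φ (D.P.root (eneg i)) < 0) ∧ (∀ i, 0 < φ (D.P.root (epos i))) ∧
        StrictMono (fun i => (-φ) (D.P.root (eneg i))) ∧ StrictMono (fun i => φ (D.P.root (epos i))) ∧
        n + m = Fintype.card D.idx := exists_orderings' D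
  refine ⟨φ, n, m, eneg, epos, hn, hp, ?_⟩
  haveI := mono_cellMap' D hn hp hnm hpm
  haveI := D.reductive.2.1
  haveI := smooth_cell_source D n m
  let X := RedSub.pow (Red.Ga S) n ⊗ (D.T ⊗ RedSub.pow (Red.Ga S) m)
  have hX : ∀ x : X.left, FlatMor.fibreDimAt X.hom x =
      ((Module.finrank ℤ D.M + Fintype.card D.idx : ℕ) : WithBot ℕ∞) := by
    refine fibreDimAt_of_geomFibre X _ fun s => ?_
    obtain ⟨h1, h2, h3⟩ := fibP_cell (Red.geomPt s) D n m
    haveI := h2
    haveI : Subsingleton ↥(Spec (CommRingCat.of (AlgebraicClosure (S.residueField s)))) :=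
      inferInstanceAs (Subsingleton (PrimeSpectrum _))
    refine ⟨GeometricallyIrreducible.irreducibleSpace_of_subsingleton (Red.bc (Red.geomPt s) X).hom, ?_⟩
    exact h3.trans (by norm_cast; omega)
  have hG : ∀ y : G.left, FlatMor.fibreDimAt G.hom y =
      ((Module.finrank ℤ D.M + Fintype.card D.idx : ℕ) : WithBot ℕ∞) := by
    refine fibreDimAt_of_geomFibre G _ fun s => ⟨?_, D.dim_fibre s⟩
    obtain ⟨-, hs, hc, -⟩ := D.reductive.2.2 s
    haveI := hs; haveI := hc
    haveI := IsogGaGm24.isIntegral_of_smooth (Red.geomFibre s G)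
    infer_instance
  exact (Groth.Agent.S4993.result G.hom X.hom (RedSub.cellMap D eneg epos).left (Over.w _)).2
    ⟨inferInstance, fun x => (hG _).trans (hX x).symm⟩

end GrothLib.CellNorm5
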